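import Groth.Agent.S9634
import Mathlib

/-!
# Reductions of purely inseparable base changes

For a Noetherian base change there is a finite purely inseparable extension after which the
reduction is geometrically reduced.
-/

universe u

namespace Groth.Agent.PurelyInsepRed

open TensorProduct Algebra.TensorProduct

variable {k : Type u} [Field k]

/-- A reduced algebra over a perfect field is geometrically reduced. -/
theorem isReduced_tensor_of_perfectField [PerfectField k] {S : Type u} [CommRing S] [Algebra k S]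
    [IsReduced S] (L : Type u) [Field L] [Algebra k L] : IsReduced (L ⊗[k] S) := by
  have h3 : (∀ (k' : Type u) [Field k'] [Algebra k k'] [Module.Finite k k']
      [IsPurelyInseparable k k'], IsReduced (k' ⊗[k] S)) ↔
      ∀ (K : Type u) [Field K] [Algebra k K], IsReduced (K ⊗[k] S) :=
    (S9634.result (k := k) (S := S)).out 0 2
  refine h3.mp (fun k' _ _ _ _ => ?_) L
  have : Algebra.IsAlgebraic k k' := Algebra.IsAlgebraic.of_finite k k'
  have hsurj := IsPurelyInseparable.surjective_algebraMap_of_isSeparable k k'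
  let e : k ≃ₐ[k] k' := AlgEquiv.ofBijective (Algebra.ofId k k') ⟨(algebraMap k k').injective, hsurj⟩
  exact isReduced_of_injective
    ((Algebra.TensorProduct.congr e.symm AlgEquiv.refl).trans (Algebra.TensorProduct.lid k S))
    (AlgEquiv.injective _)

variable {A : Type u} [CommRing A] [Algebra k A]

theorem isReduced_baseChange_quotient {k' K : Type u} [Field k'] [Field K] [Algebra k k'] [Algebra k K]
    [Algebra k' K] [IsScalarTower k k' K]
    (h : nilradical (K ⊗[k] A) ≤ (nilradical (k' ⊗[k] A)).map
      (Algebra.TensorProduct.map (Algebra.ofId k' K) (AlgHom.id k A))) :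
    IsReduced (K ⊗[k'] ((k' ⊗[k] A) ⧸ nilradical (k' ⊗[k] A))) := by
  let N := nilradical (k' ⊗[k] A)
  let M := nilradical (K ⊗[k] A)
  let ι : k' ⊗[k] A →ₐ[k'] K ⊗[k] A := Algebra.TensorProduct.map (Algebra.ofId k' K) (AlgHom.id k A)
  let π : K ⊗[k] A →ₐ[K] (K ⊗[k'] ((k' ⊗[k] A) ⧸ N)) := Algebra.TensorProduct.lift (Algebra.ofId K (K ⊗[k'] ((k' ⊗[k] A) ⧸ N)))
    (((Algebra.TensorProduct.includeRight (R := k') (A := K)).restrictScalars k).comp
      ((Ideal.Quotient.mkₐ k N).comp Algebra.TensorProduct.includeRight)) (fun _ _ => mul_comm (G := K ⊗[k'] ((k' ⊗[k] A) ⧸ N)) _ _)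
  have hN : ∀ x ∈ N, Ideal.Quotient.mkₐ k' M (ι x) = 0 := fun x hx =>
    Ideal.Quotient.eq_zero_iff_mem.mpr (mem_nilradical.mpr ((mem_nilradical.mp hx).map ι))
  let ψ : (K ⊗[k'] ((k' ⊗[k] A) ⧸ N)) →ₐ[K] (K ⊗[k] A) ⧸ M := Algebra.TensorProduct.lift (Algebra.ofId K _)
    (Ideal.Quotient.liftₐ N ((Ideal.Quotient.mkₐ k' M).comp ι) hN) (fun _ _ => Commute.all _ _)
  have hπι : ∀ y, π (ι y) = (1 : K) ⊗ₜ[k'] Ideal.Quotient.mk N y := by
    intro y
    induction y using TensorProduct.induction_on with
    | zero => simp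
    | add a b ha hb => simp only [map_add, ha, hb, TensorProduct.tmul_add]
    | tmul c a =>
      have : Ideal.Quotient.mk N (c ⊗ₜ[k] a) = c • Ideal.Quotient.mk N (1 ⊗ₜ[k] a) := by
        rw [← Ideal.Quotient.mkₐ_eq_mk k', ← map_smul, TensorProduct.smul_tmul', smul_eq_mul, mul_one]
      rw [this, ← TensorProduct.smul_tmul, Algebra.smul_def, mul_one]
      simp [π, ι, Algebra.TensorProduct.algebraMap_apply]
  have hπ0 : ∀ z ∈ M, π z = 0 := by
    intro z hz
    have hle : N.map ι ≤ RingHom.ker π.toRingHom := Ideal.map_le_iff_le_comap.mpr fun y hy => by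
      rw [Ideal.mem_comap, RingHom.mem_ker]
      change π (ι y) = 0
      rw [hπι, Ideal.Quotient.eq_zero_iff_mem.mpr hy, TensorProduct.tmul_zero]
    exact hle (h hz)
  have hψπ : ∀ z, ψ (π z) = Ideal.Quotient.mk M z := by
    intro z
    induction z using TensorProduct.induction_on with
    | zero => simp
    | add a b ha hb => simp only [map_add, ha, hb]
    | tmul c a =>
      simp [π, ψ, ι, Algebra.TensorProduct.algebraMap_apply]
      rw [← Ideal.Quotient.mk_algebraMap, ← map_mul, Algebra.TensorProduct.algebraMap_apply,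
        Algebra.TensorProduct.tmul_mul_tmul, mul_one, one_mul]
      rfl
  have hπs : Function.Surjective π := by
    intro w
    induction w using TensorProduct.induction_on with
    | zero => exact ⟨0, map_zero _⟩
    | add a b ha hb =>
      obtain ⟨a, rfl⟩ := ha
      obtain ⟨b, rfl⟩ := hb
      exact ⟨a + b, map_add _ _ _⟩
    | tmul c q =>
      obtain ⟨y, rfl⟩ := Ideal.Quotient.mk_surjective q
      refine ⟨c • ι y, ?_⟩
      rw [map_smul, hπι, TensorProduct.smul_tmul', smul_eq_mul, mul_one]
  have hψinj : Function.Injective ψ := by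
    refine (injective_iff_map_eq_zero ψ).mpr fun w hw => ?_
    obtain ⟨z, rfl⟩ := hπs w
    rw [hψπ] at hw
    exact hπ0 z (Ideal.Quotient.eq_zero_iff_mem.mp hw)
  have : IsReduced ((K ⊗[k] A) ⧸ M) :=
    (Ideal.isRadical_iff_quotient_reduced M).mp (Ideal.radical_isRadical _)
  exact isReduced_of_injective ψ hψinj

theorem isGeometricallyReduced_quotient {k' K : Type u} [Field k'] [Field K] [Algebra k k']
    [Algebra k K] [Algebra k' K] [IsScalarTower k k' K] [PerfectField K] [Algebra.IsAlgebraic k' K]
    (h : nilradical (K ⊗[k] A) ≤ (nilradical (k' ⊗[k] A)).map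
      (Algebra.TensorProduct.map (Algebra.ofId k' K) (AlgHom.id k A))) :
    Algebra.IsGeometricallyReduced k' ((k' ⊗[k] A) ⧸ nilradical (k' ⊗[k] A)) := by
  have := isReduced_baseChange_quotient (k := k) (A := A) (k' := k') (K := K) h
  rw [Algebra.isGeometricallyReduced_field_iff]
  let L := AlgebraicClosure k'
  let e : K →ₐ[k'] L := IsAlgClosed.lift
  let : Algebra K L := e.toRingHom.toAlgebra
  have : IsScalarTower k' K L := .of_algebraMap_eq fun x => (e.commutes x).symm
  have := isReduced_tensor_of_perfectField (k := K)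
    (S := K ⊗[k'] ((k' ⊗[k] A) ⧸ nilradical (k' ⊗[k] A))) L
  exact isReduced_of_injective
    (Algebra.TensorProduct.cancelBaseChange k' K K L ((k' ⊗[k] A) ⧸ nilradical (k' ⊗[k] A))).symm
    (AlgEquiv.injective _)

/-- There is a finite purely inseparable extension after which the reduction of a finite type
algebra is geometrically reduced. -/
theorem exists_isGeometricallyReduced (A : Type u) [CommRing A] [Algebra k A]
    [Algebra.FiniteType k A] :
    ∃ (k' : Type u) (_ : Field k') (_ : Algebra k k'), FiniteDimensional k k' ∧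
      IsPurelyInseparable k k' ∧
      Algebra.IsGeometricallyReduced k' ((k' ⊗[k] A) ⧸ nilradical (k' ⊗[k] A)) := by
  classical
  let K := perfectClosure k (AlgebraicClosure k)
  have : PerfectField K := perfectClosure.perfectField k (AlgebraicClosure k)
  have : IsNoetherianRing (K ⊗[k] A) := Algebra.FiniteType.isNoetherianRing K (K ⊗[k] A)
  obtain ⟨G, hG⟩ := (IsNoetherian.noetherian (nilradical (K ⊗[k] A)) :
    (nilradical (K ⊗[k] A)).FG)
  have hx : ∀ x : K ⊗[k] A, ∃ T : Finset K, ∀ F : IntermediateField k K, (T : Set K) ⊆ F →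
      x ∈ Set.range (Algebra.TensorProduct.map (Algebra.ofId F K) (AlgHom.id k A)) := by
    intro x
    induction x using TensorProduct.induction_on with
    | zero => exact ⟨∅, fun F _ => ⟨0, map_zero _⟩⟩
    | tmul c a => exact ⟨{c}, fun F hF => ⟨(⟨c, hF (by simp)⟩ : F) ⊗ₜ a, rfl⟩⟩
    | add a b ha hb =>
      obtain ⟨T, hT⟩ := ha
      obtain ⟨T', hT'⟩ := hb
      refine ⟨T ∪ T', fun F hF => ?_⟩
      obtain ⟨a', ha'⟩ := hT F ((Finset.coe_subset.mpr Finset.subset_union_left).trans hF)
      obtain ⟨b', hb'⟩ := hT' F ((Finset.coe_subset.mpr Finset.subset_union_right).trans hF)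
      exact ⟨a' + b', by rw [map_add, ha', hb']⟩
  choose T hT using hx
  let F := IntermediateField.adjoin k (G.biUnion T : Set K)
  have : FiniteDimensional k F :=
    IntermediateField.finiteDimensional_adjoin fun x _ => Algebra.IsIntegral.isIntegral x
  have hF : IsPurelyInseparable k F := IsPurelyInseparable.tower_bot k F K
  refine ⟨F, inferInstance, inferInstance, inferInstance, hF, ?_⟩
  let ι := Algebra.TensorProduct.map (Algebra.ofId F K) (AlgHom.id k A)
  have hι : Function.Injective ι :=
    Module.Flat.rTensor_preserves_injective_linearMap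
      (IsScalarTower.toAlgHom k F K).toLinearMap (algebraMap F K).injective
  have : Algebra.IsAlgebraic F K := Algebra.IsAlgebraic.tower_top (K := k) F
  refine isGeometricallyReduced_quotient (K := K) ?_
  rw [← hG, Ideal.span_le]
  intro x hx
  obtain ⟨y, hy⟩ := hT x F ((Finset.coe_subset.mpr (Finset.subset_biUnion_of_mem T hx)).trans
    (IntermediateField.subset_adjoin k _))
  rw [← hy]
  refine Ideal.mem_map_of_mem _ (mem_nilradical.mpr ?_)
  have hxn : IsNilpotent x := mem_nilradical.mp (hG ▸ Submodule.subset_span hx)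
  exact (IsNilpotent.map_iff hι).mp (hy ▸ hxn)

/-- A purely inseparable base change of a domain has prime nilradical. -/
theorem isPrime_nilradical (k' : Type u) [Field k'] [Algebra k k'] [IsPurelyInseparable k k']
    (A : Type u) [CommRing A] [IsDomain A] [Algebra k A] :
    (nilradical (k' ⊗[k] A)).IsPrime := by
  have hinj : Function.Injective (Algebra.TensorProduct.includeRight : A →ₐ[k] k' ⊗[k] A) :=
    Algebra.TensorProduct.includeRight_injective (algebraMap k k').injective
  let q := ringExpChar k
  have : ExpChar k q := inferInstance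
  have hq : 0 < q := expChar_pos k q
  have hnt : Nontrivial (k' ⊗[k] A) := hinj.nontrivial
  have hpow : ∀ x : k' ⊗[k] A, ∃ (n : ℕ) (a : A), x ^ q ^ n = 1 ⊗ₜ[k] a := by
    have : ExpChar (k' ⊗[k] A) q :=
      expChar_of_injective_ringHom (algebraMap k (k' ⊗[k] A)).injective q
    intro x
    induction x using TensorProduct.induction_on with
    | zero => exact ⟨0, 0, by simp⟩
    | tmul c a =>
      obtain ⟨n, y, hy⟩ := IsPurelyInseparable.pow_mem k q c
      refine ⟨n, y • a ^ q ^ n, ?_⟩
      rw [Algebra.TensorProduct.tmul_pow, ← hy, ← TensorProduct.smul_tmul, Algebra.smul_def, mul_one]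
    | add x y hx hy =>
      obtain ⟨n, a, ha⟩ := hx
      obtain ⟨m, b, hb⟩ := hy
      refine ⟨n + m, a ^ q ^ m + b ^ q ^ n, ?_⟩
      rw [add_pow_expChar_pow, TensorProduct.tmul_add, pow_add, pow_mul, ha, mul_comm, pow_mul, hb,
        Algebra.TensorProduct.tmul_pow, Algebra.TensorProduct.tmul_pow, one_pow, one_pow]
  refine ⟨fun h => ?_, fun {x y} hxy => ?_⟩
  · exact not_isNilpotent_one (mem_nilradical.mp ((Ideal.eq_top_iff_one _).mp h))
  · obtain ⟨n, a, ha⟩ := hpow x
    obtain ⟨m, b, hb⟩ := hpow y
    have h1 : IsNilpotent ((x * y) ^ (q ^ n * q ^ m)) :=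
      (mem_nilradical.mp hxy).pow_of_pos (by positivity)
    rw [mul_pow, pow_mul, ha, mul_comm (q ^ n), pow_mul, hb, Algebra.TensorProduct.tmul_pow,
      Algebra.TensorProduct.tmul_pow, one_pow, one_pow, Algebra.TensorProduct.tmul_mul_tmul,
      mul_one] at h1
    rcases mul_eq_zero.mp ((IsNilpotent.map_iff hinj).mp h1).eq_zero with h | h
    · left
      refine mem_nilradical.mpr (IsNilpotent.of_pow (m := q ^ n) ?_)
      rw [ha, eq_zero_of_pow_eq_zero h, TensorProduct.tmul_zero]; exact IsNilpotent.zero
    · right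
      refine mem_nilradical.mpr (IsNilpotent.of_pow (m := q ^ m) ?_)
      rw [hb, eq_zero_of_pow_eq_zero h, TensorProduct.tmul_zero]; exact IsNilpotent.zero

end Groth.Agent.PurelyInsepRed
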